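import Cfsg.Agent.Lib.LargeRee.CheckDefs

set_option autoImplicit false

/-! Kernel check: the root elements preserve the ideal and respect the bracket with it. -/

namespace CfsgLib.LargeRee

open Cfsg.Lie

theorem ideal_ok :
    ((List.range 12).all fun n => idealCodes.all fun c => (col n c).all fun p => idealCodes.elem p.2) = true ∧
    ((List.range 52).all fun b => (List.range 26).all fun p => (brk b p).all fun i => idealCodes.elem i) = true := by
  decide +kernel

theorem equi_ok :
    ((List.range 12).all fun n => (List.range 52).all fun b => idealCodes.all fun c =>
      evenList (equiTerms n b c)) = true := by
  decide +kernel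

theorem inj_ok :
    ((List.range 52).all fun b => (List.range 52).all fun b' =>
      injCount b b' % 2 == if b = b' then 1 else 0) = true := by
  decide +kernel

end CfsgLib.LargeRee
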