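import Cfsg.Agent.Lib.LargeRee.Tables

set_option autoImplicit false

/-!
Definitions of the checks on the tables: they are the root elements of the datum modulo 2, and the
root elements respect the bracket with the short-root ideal.
-/

namespace CfsgLib.LargeRee

open Cfsg.Lie

/-- The code of a coordinate. -/
def code : chevF4.Idx → ℕ
  | Sum.inl i => i.val
  | Sum.inr s => 4 + s.val

/-- The column of a root element (root at position `n` of `usedRoots`). -/
def col (n j : ℕ) : List (ℕ × ℕ) := (colTabs.getD n []).getD j []

/-- The bracket of the basis element `b` with the ideal element at position `p`. -/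
def brk (b p : ℕ) : List ℕ := (bracketTab.getD b []).getD p []

/-- The position of a code in `idealCodes`. -/
def ipos (c : ℕ) : ℕ := idealCodes.idxOf c

/-- The terms `(exponent, coefficient)` of an entry of a root element. -/
def xTerms (r : Fin chevF4.nroots) (row col : chevF4.Idx) : List (ℕ × ℤ) :=
  match col with
  | Sum.inl i =>
    (match row with
     | Sum.inl i' => if i' = i then [(0, 1)] else []
     | Sum.inr u => if u = r then [(1, -((chevF4.cartanSR.getD i.val #[]).getD r.val 0))] else [])
  | Sum.inr s =>
    if s = r then (match row with | Sum.inr u => if u = r then [(0, 1)] else [] | Sum.inl _ => [])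
    else if s.val = chevF4.negIdx.getD r.val 0 then
      (match row with
       | Sum.inl i => [(1, (chevF4.coroot.getD r.val #[]).getD i.val 0)]
       | Sum.inr u => if u = s then [(0, 1)] else if u = r then [(2, -1)] else [])
    else
      (match row with
       | Sum.inl _ => []
       | Sum.inr u => (if u = s then [(0, 1)] else []) ++ chevF4.chainCoeff r.val s.val u.val)

/-- The coordinate with a given code. -/
def decodeIdx (n : ℕ) : chevF4.Idx :=
  if h : n < 4 then Sum.inl ⟨n, h⟩ else Sum.inr ⟨(n - 4) % 48, Nat.mod_lt _ (by norm_num)⟩

/-- The root at a position of `usedRoots`. -/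
def usedRoot (n : ℕ) : Fin chevF4.nroots :=
  ⟨usedRoots.getD n 0 % 48, Nat.mod_lt _ (show 0 < 48 by norm_num)⟩

/-- Agreement modulo 2 of an entry with the table. -/
def entryOk (L : List (ℕ × ℤ)) (T : List (ℕ × ℕ)) (i : ℕ) : Bool :=
  L.all (fun p => p.1 < 3) && T.all (fun p => p.1 < 3) &&
    (List.range 3).all fun k =>
      (((L.filter fun p => p.1 == k).map Prod.snd).sum - (T.count (k, i) : ℤ)) % 2 == 0

/-- All counts even. -/
def evenList {α : Type} [DecidableEq α] (L : List α) : Bool := L.all fun x => L.count x % 2 == 0

/-- The image of a bracket and the bracket of the images. -/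
def equiTerms (n b c : ℕ) : List (ℕ × ℕ) :=
  ((brk b (ipos c)).flatMap fun i => col n i) ++
    ((col n b).flatMap fun u => (col n c).flatMap fun v =>
      (brk u.2 (ipos v.2)).map fun i => (u.1 + v.1, i))

/-- The coefficient extraction terms for injectivity. -/
def injCount (b b' : ℕ) : ℕ :=
  ((injTab.getD b []).map fun pr => (brk b' pr.1).count pr.2).sum

end CfsgLib.LargeRee
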