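import Cfsg.Agent.Lib.LargeRee.CheckDefs

set_option autoImplicit false

/-! Kernel check: the tables are the root elements of the datum modulo 2. -/

namespace CfsgLib.LargeRee

open Cfsg.Lie

theorem code_table_raw :
    ((List.range 12).all fun n => (List.range 52).all fun i => (List.range 52).all fun j =>
      entryOk (xTerms (usedRoot n) (decodeIdx i) (decodeIdx j)) (col n j) i) = true := by
  decide +kernel

end CfsgLib.LargeRee
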