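import Cfsg.Agent.Lib.LargeRee.CheckTable
import Cfsg.Agent.Lib.LargeRee.CheckBracket

set_option autoImplicit false

/-!
In characteristic 2 the short-root ideal of the `F₄` Lie algebra is a 26-dimensional module of the
twisted group on which it acts faithfully; hence its 2-elements have order at most 32.
-/

namespace CfsgLib.LargeRee

open Cfsg.Lie Module
open scoped Matrix MatrixGroups

variable (K : Type*) [Field K]

/-- The basis vector with a given code. -/
def δ (i : ℕ) : chevF4.Idx → K := fun j => if code j = i then 1 else 0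

/-- The vector described by a list of `(exponent, code)` at the parameter `t`. -/
def pv (t : K) (L : List (ℕ × ℕ)) : chevF4.Idx → K := (L.map fun p => t ^ p.1 • δ K p.2).sum

/-- The vector described by a list of codes. -/
def lv (L : List ℕ) : chevF4.Idx → K := (L.map (δ K)).sum

/-- The short-root ideal. -/
def ideal : Submodule K (chevF4.Idx → K) := Submodule.span K (δ K '' {i | i ∈ idealCodes})

variable {K}

theorem code_lt (j : chevF4.Idx) : code j < 52 := by
  rcases j with i | s
  · have := i.isLt; change i.val < 52; simp [chevF4] at this ⊢; omega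
  · have := s.isLt; change 4 + s.val < 52; simp [chevF4] at this ⊢; omega

theorem decodeIdx_code (j : chevF4.Idx) : decodeIdx (code j) = j := by
  rcases j with i | s
  · have := i.isLt
    rw [decodeIdx, dif_pos (show code (Sum.inl i) < 4 from this)]
    rfl
  · have h := s.isLt
    rw [decodeIdx, dif_neg (show ¬ code (Sum.inr s) < 4 by simp [code])]
    congr 1
    refine Fin.ext ?_
    change (4 + s.val - 4) % 48 = s.val
    rw [Nat.add_sub_cancel_left]
    exact Nat.mod_eq_of_lt h

theorem code_injective : Function.Injective code :=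
  Function.LeftInverse.injective decodeIdx_code

theorem idealCodes_lt : ∀ c ∈ idealCodes, c < 52 := by decide

theorem ideal_entry {c : ℕ} (hc : c ∈ idealCodes) : ipos c < 26 := by
  have h := List.idxOf_lt_length_of_mem hc
  exact h

theorem natCast_eq_zero_of_even [CharP K 2] {n : ℕ} (h : n % 2 = 0) : (n : K) = 0 :=
  (CharP.cast_eq_zero_iff K 2 n).mpr (Nat.dvd_of_mod_eq_zero h)

/-- A list with even multiplicities sums to zero in characteristic 2. -/
theorem sum_eq_zero_of_even [CharP K 2] {α : Type} [DecidableEq α] {M : Type*} [AddCommGroup M]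
    [Module K M] (L : List α) (h : evenList L = true) (f : α → M) : (L.map f).sum = 0 := by
  rw [Finset.sum_list_map_count]
  refine Finset.sum_eq_zero fun x hx => ?_
  rw [← Nat.cast_smul_eq_nsmul K, natCast_eq_zero_of_even, zero_smul]
  have := List.all_eq_true.mp h x (List.mem_toFinset.mp hx)
  simpa using this

theorem sum_terms {α : Type*} (L : List α) (k : α → ℕ) (v : α → K) (hk : ∀ p ∈ L, k p < 3) (t : K) :
    (L.map fun p => v p * t ^ k p).sum =
      ∑ i ∈ Finset.range 3, ((L.filter fun p => k p == i).map v).sum * t ^ i := by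
  induction L with
  | nil => simp
  | cons p L ih =>
    have h1 : k p < 3 := hk p (by simp)
    rw [List.map_cons, List.sum_cons, ih (fun q hq => hk q (List.mem_cons_of_mem _ hq))]
    simp only [List.filter_cons, beq_iff_eq]
    interval_cases k p <;> simp [Finset.sum_range_succ, add_mul] <;> ring

theorem xMat_eq_terms (r : Fin chevF4.nroots) (t : K) (row col' : chevF4.Idx) :
    chevF4.xMat K r t row col' = ((xTerms r row col').map fun p => ((p.2 : ℤ) : K) * t ^ p.1).sum := by
  rcases col' with i | s <;> rcases row with i' | u <;>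
    simp only [ChevalleyDatum.xMat, Matrix.of_apply, xTerms] <;> split_ifs <;>
    simp_all

theorem xMat_mulVec_δ [CharP K 2] {n : ℕ} (hn : n < 12) (t : K) {j : ℕ} (hj : j < 52) :
    chevF4.xMat K (usedRoot n) t *ᵥ δ K j = pv K t (col n j) := by
  have hδ : δ K j = Pi.single (decodeIdx j) (1 : K) := by
    funext i
    have hc : code (decodeIdx j) = j := by
      unfold decodeIdx
      split
      · rfl
      · change 4 + (j - 4) % 48 = j
        rw [Nat.mod_eq_of_lt (by omega)]; omega
    rw [Pi.single_apply]
    simp only [δ]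
    by_cases h : i = decodeIdx j
    · rw [if_pos h, h, if_pos hc]
    · rw [if_neg h, if_neg fun e => h (code_injective (e.trans hc.symm))]
  rw [hδ, Matrix.mulVec_single_one]
  funext i
  change chevF4.xMat K _ t i (decodeIdx j) = _
  rw [xMat_eq_terms]
  have hck := List.all_eq_true.mp (List.all_eq_true.mp (List.all_eq_true.mp code_table_raw n
    (List.mem_range.mpr hn)) (code i) (List.mem_range.mpr (code_lt i))) j (List.mem_range.mpr hj)
  rw [decodeIdx_code] at hck
  simp only [entryOk, Bool.and_eq_true, List.all_eq_true, decide_eq_true_eq, List.mem_range,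
    beq_iff_eq] at hck
  obtain ⟨⟨hE, hT⟩, hpar⟩ := hck
  rw [sum_terms _ Prod.fst (fun p => ((p.2 : ℤ) : K)) hE]
  have hpv : pv K t (col n j) i =
      ((col n j).map fun p => (if code i = p.2 then (1 : K) else 0) * t ^ p.1).sum := by
    unfold pv
    induction col n j with
    | nil => simp
    | cons p L ih =>
      simp only [List.map_cons, List.sum_cons, Pi.add_apply, ih]
      congr 1
      simp [δ]
  rw [hpv, sum_terms _ Prod.fst (fun p => if code i = p.2 then (1 : K) else 0) hT]
  refine Finset.sum_congr rfl fun k hk => congrArg (· * t ^ k) ?_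
  have hk' := hpar k (Finset.mem_range.mp hk)
  have hl : (((xTerms (usedRoot n) i (decodeIdx j)).filter fun p => p.1 == k).map
      fun p => ((p.2 : ℤ) : K)).sum =
      ((((xTerms (usedRoot n) i (decodeIdx j)).filter fun p => p.1 == k).map Prod.snd).sum : ℤ) := by
    rw [Int.cast_list_sum, List.map_map]; rfl
  have hr : (((col n j).filter fun p => p.1 == k).map fun p => if code i = p.2 then (1 : K) else 0).sum =
      (((col n j).count (k, code i) : ℕ) : K) := by
    induction col n j with
    | nil => simp
    | cons p L ih =>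
      obtain ⟨a, b⟩ := p
      by_cases ha : a = k <;> by_cases hb : code i = b
      · subst ha hb; simp [ih, add_comm]
      · subst ha; simp [ih, hb, List.count_cons, Ne.symm hb]
      · subst hb; simp [ih, ha, List.count_cons]
      · simp [ih, ha, List.count_cons]
  rw [hl, hr, ← Int.cast_natCast (R := K), CharP.intCast_eq_intCast K 2, Int.modEq_iff_dvd]
  exact Int.dvd_of_emod_eq_zero (by omega)

/-- The bracket with the ideal, as a bilinear expression in coordinates. -/
def br (u v : chevF4.Idx → K) : chevF4.Idx → K :=
  ∑ a : chevF4.Idx, ∑ b : chevF4.Idx, (u a * v b) • lv K (brk (code a) (ipos (code b)))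

/-- The bracket as a bilinear map. -/
def brL : (chevF4.Idx → K) →ₗ[K] (chevF4.Idx → K) →ₗ[K] (chevF4.Idx → K) :=
  LinearMap.mk₂ K br
    (fun u u' v => by simp [br, add_mul, add_smul, Finset.sum_add_distrib])
    (fun c u v => by simp [br, Finset.smul_sum, smul_smul, mul_assoc])
    (fun u v v' => by simp [br, mul_add, add_smul, Finset.sum_add_distrib])
    (fun c u v => by simp [br, Finset.smul_sum, smul_smul, mul_left_comm])

theorem δ_code (a : chevF4.Idx) : δ K (code a) = Pi.single a (1 : K) := by
  funext i; simp [δ, Pi.single_apply, code_injective.eq_iff]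

theorem δ_eq_zero {i : ℕ} (hi : ¬ i < 52) : δ K i = 0 := by
  funext a; simp [δ, show code a ≠ i from fun h => hi (h ▸ code_lt a)]

theorem brL_δ {b c : ℕ} (hb : b < 52) (hc : c < 52) :
    brL (δ K b) (δ K c) = lv K (brk b (ipos c)) := by
  change br _ _ = _
  have e : ∀ j < 52, ∃ a : chevF4.Idx, code a = j := fun j hj => ⟨decodeIdx j, by
    unfold decodeIdx
    split
    · rfl
    · change 4 + (j - 4) % 48 = j
      rw [Nat.mod_eq_of_lt (by omega)]; omega⟩
  obtain ⟨a, rfl⟩ := e b hb
  obtain ⟨a', rfl⟩ := e c hc
  simp [br, δ_code, Pi.single_apply]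

theorem δ_mem_ideal {c : ℕ} (hc : c ∈ idealCodes) : δ K c ∈ ideal K :=
  Submodule.subset_span ⟨c, hc, rfl⟩

theorem lv_mem_ideal {L : List ℕ} (h : ∀ i ∈ L, i ∈ idealCodes) : lv K L ∈ ideal K :=
  list_sum_mem fun x hx => by
    obtain ⟨i, hi, rfl⟩ := List.mem_map.mp hx
    exact δ_mem_ideal (h i hi)

theorem brk_mem {b c i : ℕ} (hb : b < 52) (hc : c ∈ idealCodes) (hi : i ∈ brk b (ipos c)) :
    i ∈ idealCodes :=
  List.elem_iff.mp (List.all_eq_true.mp (List.all_eq_true.mp (List.all_eq_true.mp ideal_ok.2 b
    (List.mem_range.mpr hb)) (ipos c) (List.mem_range.mpr (ideal_entry hc))) i hi)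

theorem brL_mem (u : chevF4.Idx → K) {v : chevF4.Idx → K} (hv : v ∈ ideal K) : brL u v ∈ ideal K := by
  induction hv using Submodule.span_induction with
  | mem x hx =>
    obtain ⟨c, hc, rfl⟩ := hx
    rw [pi_eq_sum_univ' u, map_sum, LinearMap.sum_apply]
    refine Submodule.sum_mem _ fun a _ => ?_
    rw [map_smul, LinearMap.smul_apply, ← δ_code, brL_δ (code_lt a) (idealCodes_lt c hc)]
    exact Submodule.smul_mem _ _ (lv_mem_ideal fun i hi => brk_mem (code_lt a) hc hi)
  | zero => simp
  | add x y _ _ hx hy => rw [map_add]; exact add_mem hx hy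
  | smul a x _ hx => rw [map_smul]; exact Submodule.smul_mem _ _ hx

/-- A matrix preserves the ideal and respects the bracket with it. -/
def Good (M : Matrix chevF4.Idx chevF4.Idx K) : Prop :=
  (∀ v ∈ ideal K, M *ᵥ v ∈ ideal K) ∧ ∀ u, ∀ v ∈ ideal K, M *ᵥ brL u v = brL (M *ᵥ u) (M *ᵥ v)

theorem good_one : Good (1 : Matrix chevF4.Idx chevF4.Idx K) := by simp [Good]

theorem good_mul {M N : Matrix chevF4.Idx chevF4.Idx K} (hM : Good M) (hN : Good N) : Good (M * N) := by
  refine ⟨fun v hv => ?_, fun u v hv => ?_⟩
  · rw [← Matrix.mulVec_mulVec]; exact hM.1 _ (hN.1 v hv)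
  · simp only [← Matrix.mulVec_mulVec]; rw [hN.2 u v hv, hM.2 _ _ (hN.1 v hv)]

theorem pv_mem_ideal {t : K} {L : List (ℕ × ℕ)} (h : ∀ p ∈ L, p.2 ∈ idealCodes) : pv K t L ∈ ideal K :=
  list_sum_mem fun x hx => by
    obtain ⟨p, hp, rfl⟩ := List.mem_map.mp hx
    exact Submodule.smul_mem _ _ (δ_mem_ideal (h p hp))

theorem col_mem {n c : ℕ} (hn : n < 12) (hc : c ∈ idealCodes) {p : ℕ × ℕ} (hp : p ∈ col n c) :
    p.2 ∈ idealCodes :=
  List.elem_iff.mp (List.all_eq_true.mp (List.all_eq_true.mp (List.all_eq_true.mp ideal_ok.1 n
    (List.mem_range.mpr hn)) c hc) p hp)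

theorem col_lt {n j : ℕ} (hn : n < 12) : ∀ p ∈ col n j, p.2 < 52 := by
  have h : (colTabs.all fun T => T.all fun L => L.all fun p => p.2 < 52) = true := by decide +kernel
  intro p hp
  by_cases hj : j < (colTabs.getD n []).length
  · have hn' : n < colTabs.length := hn
    have h1 := List.all_eq_true.mp h (colTabs.getD n [])
      (by rw [List.getD_eq_getElem _ _ hn']; exact List.getElem_mem hn')
    have h2 := List.all_eq_true.mp h1 (col n j)
      (by rw [col, List.getD_eq_getElem _ _ hj]; exact List.getElem_mem hj)
    simpa using List.all_eq_true.mp h2 p hp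
  · rw [col, List.getD_eq_default _ _ (by omega)] at hp
    simp at hp

theorem good_xMat [CharP K 2] {n : ℕ} (hn : n < 12) (t : K) : Good (chevF4.xMat K (usedRoot n) t) := by
  have hI : ∀ v ∈ ideal K, chevF4.xMat K (usedRoot n) t *ᵥ v ∈ ideal K := by
    intro v hv
    induction hv using Submodule.span_induction with
    | mem x hx =>
      obtain ⟨c, hc, rfl⟩ := hx
      rw [xMat_mulVec_δ hn t (idealCodes_lt c hc)]
      exact pv_mem_ideal fun p hp => col_mem hn hc hp
    | zero => simp
    | add x y _ _ hx hy => rw [Matrix.mulVec_add]; exact add_mem hx hy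
    | smul a x _ hx => rw [Matrix.mulVec_smul]; exact Submodule.smul_mem _ _ hx
  refine ⟨hI, fun u v hv => ?_⟩
  induction hv using Submodule.span_induction generalizing u with
  | zero => simp
  | add x y _ _ hx hy => simp only [map_add, Matrix.mulVec_add, hx u, hy u]
  | smul a x _ hx => simp only [map_smul, Matrix.mulVec_smul, hx u]
  | mem x hx =>
    obtain ⟨c, hc, rfl⟩ := hx
    suffices h : (chevF4.xMat K (usedRoot n) t).mulVecLin.comp ((brL (K := K)).flip (δ K c)) =
        ((brL (K := K)).flip (chevF4.xMat K (usedRoot n) t *ᵥ δ K c)).comp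
          (chevF4.xMat K (usedRoot n) t).mulVecLin by
      simpa using LinearMap.congr_fun h u
    refine LinearMap.pi_ext' fun a => LinearMap.ext_ring ?_
    simp only [LinearMap.coe_comp, Function.comp_apply, LinearMap.coe_single, Matrix.mulVecLin_apply,
      LinearMap.flip_apply]
    rw [← δ_code, brL_δ (code_lt a) (idealCodes_lt c hc)]
    set b := code a
    have hb : b < 52 := code_lt a
    set X := chevF4.xMat K (usedRoot n) t
    have lhs : X *ᵥ lv K (brk b (ipos c)) = pv K t ((brk b (ipos c)).flatMap fun i => col n i) := by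
      have hlt : ∀ i ∈ brk b (ipos c), i < 52 := fun i hi => idealCodes_lt i (brk_mem hb hc hi)
      generalize brk b (ipos c) = L at hlt
      induction L with
      | nil => simp [lv, pv]
      | cons i L ih =>
        simp only [lv, pv, List.map_cons, List.sum_cons, List.flatMap_cons, List.map_append,
          List.sum_append, Matrix.mulVec_add] at ih ⊢
        rw [ih (fun j hj => hlt j (List.mem_cons_of_mem _ hj)), xMat_mulVec_δ hn t (hlt i (by simp))]
        rfl
    have rhs : brL (X *ᵥ δ K b) (X *ᵥ δ K c) = pv K t ((col n b).flatMap fun u => (col n c).flatMap fun v =>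
        (brk u.2 (ipos v.2)).map fun i => (u.1 + v.1, i)) := by
      rw [xMat_mulVec_δ hn t hb, xMat_mulVec_δ hn t (idealCodes_lt c hc)]
      have hu := col_lt (j := b) hn
      have hv := col_lt (j := c) hn
      generalize col n b = Lb at hu
      generalize col n c = Lc at hv
      induction Lb with
      | nil => simp [pv]
      | cons p Lb ih =>
        have hp := hu p (by simp)
        simp only [pv, List.map_cons, List.sum_cons, List.flatMap_cons, List.map_append,
          List.sum_append, map_add, LinearMap.add_apply] at ih ⊢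
        rw [ih (fun q hq => hu q (List.mem_cons_of_mem _ hq))]
        congr 1
        clear ih hu
        induction Lc with
        | nil => simp
        | cons q Lc ih =>
          have hq := hv q (by simp)
          simp only [List.map_cons, List.sum_cons, List.flatMap_cons, List.map_append, List.sum_append,
            map_add] at ih ⊢
          rw [ih (fun x hx => hv x (List.mem_cons_of_mem _ hx))]
          congr 1
          simp only [map_smul, LinearMap.smul_apply, brL_δ hp hq, lv, List.map_map, List.smul_sum, smul_smul]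
          refine congrArg List.sum (List.map_congr_left fun i _ => ?_)
          simp [Function.comp_def, smul_smul, pow_add, mul_comm]
    rw [lhs, rhs]
    have he : evenList (equiTerms n b c) = true :=
      List.all_eq_true.mp (List.all_eq_true.mp (List.all_eq_true.mp equi_ok n (List.mem_range.mpr hn)) b
        (List.mem_range.mpr hb)) c hc
    have h0 := sum_eq_zero_of_even (K := K) _ he (fun p : ℕ × ℕ => t ^ p.1 • δ K p.2)
    rw [equiTerms, List.map_append, List.sum_append] at h0
    exact add_eq_zero_iff_eq_neg.mp h0 |>.trans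
      (funext fun i => CharTwo.neg_eq _)

theorem eq_zero_of_brL [CharP K 2] (w : chevF4.Idx → K) (h : ∀ v ∈ ideal K, brL w v = 0) : w = 0 := by
  have hw : w = ∑ a, w a • δ K (code a) := by
    simp only [δ_code]
    exact pi_eq_sum_univ' w
  funext b
  let F : (chevF4.Idx → K) →ₗ[K] K :=
    ((injTab.getD (code b) []).map fun pr => (LinearMap.proj (decodeIdx pr.2)).comp
      ((brL (K := K)).flip (δ K (idealCodes.getD pr.1 0)))).sum
  have hlen : ∀ pr ∈ injTab.getD (code b) [], pr.1 < 26 ∧ pr.2 < 52 := by
    intro pr hpr
    have h1 : (injTab.all fun L => L.all fun pr => decide (pr.1 < 26) && decide (pr.2 < 52)) = true := by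
      decide +kernel
    have hb : code b < injTab.length := code_lt b
    rw [List.getD_eq_getElem _ _ hb] at hpr
    simpa using List.all_eq_true.mp (List.all_eq_true.mp h1 _ (List.getElem_mem hb)) pr hpr
  have hpos : ∀ p < 26, ipos (idealCodes.getD p 0) = p ∧ idealCodes.getD p 0 ∈ idealCodes := by decide
  have hF : ∀ a, F (δ K (code a)) = if a = b then 1 else 0 := by
    intro a
    have he : F (δ K (code a)) = ((injCount (code b) (code a) : ℕ) : K) := by
      simp only [F, injCount]
      generalize injTab.getD (code b) [] = L at hlen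
      induction L with
      | nil => simp
      | cons pr L ih =>
        obtain ⟨h1, h2⟩ := hlen pr (by simp)
        simp only [List.map_cons, List.sum_cons, LinearMap.add_apply, Nat.cast_add] at ih ⊢
        rw [ih (fun q hq => hlen q (List.mem_cons_of_mem _ hq))]
        congr 1
        obtain ⟨h3, h4⟩ := hpos pr.1 h1
        simp only [LinearMap.coe_comp, Function.comp_apply, LinearMap.flip_apply, LinearMap.proj_apply,
          brL_δ (code_lt a) (idealCodes_lt _ h4), h3]
        have hc : code (decodeIdx pr.2) = pr.2 := by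
          unfold decodeIdx
          split
          · rfl
          · change 4 + (pr.2 - 4) % 48 = pr.2
            rw [Nat.mod_eq_of_lt (by omega)]; omega
        generalize brk (code a) pr.1 = L'
        induction L' with
        | nil => simp [lv]
        | cons i L' ih' =>
          simp only [lv, List.map_cons, List.sum_cons, Pi.add_apply] at ih' ⊢
          rw [ih', List.count_cons]
          by_cases hi : i = pr.2
          · subst hi; simp [δ, hc, add_comm]
          · simp [δ, hc, hi, Ne.symm hi]
    rw [he]
    have hc := List.all_eq_true.mp (List.all_eq_true.mp inj_ok (code b) (List.mem_range.mpr (code_lt b)))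
      (code a) (List.mem_range.mpr (code_lt a))
    simp only [beq_iff_eq, code_injective.eq_iff] at hc
    rw [← CharP.cast_eq_mod K 2 (injCount (code b) (code a)) |>.symm.trans rfl] at *
    rw [CharP.cast_eq_mod K 2, hc]
    by_cases hab : a = b
    · subst hab; simp
    · simp [hab, Ne.symm hab]
  have h0 : F w = 0 := by
    simp only [F]
    generalize injTab.getD (code b) [] = L at hlen
    induction L with
    | nil => simp
    | cons pr L ih =>
      obtain ⟨h1, h2⟩ := hlen pr (by simp)
      simp only [List.map_cons, List.sum_cons, LinearMap.add_apply] at ih ⊢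
      rw [ih (fun q hq => hlen q (List.mem_cons_of_mem _ hq)), add_zero]
      simp only [LinearMap.coe_comp, Function.comp_apply, LinearMap.flip_apply, LinearMap.proj_apply]
      rw [h _ (δ_mem_ideal (hpos pr.1 h1).2)]
      rfl
  rw [hw, map_sum] at h0
  simpa [hF] using h0

theorem finrank_ideal_le : finrank K (ideal K) ≤ 26 := by
  classical
  have : (δ K '' {i | i ∈ idealCodes}) = ((idealCodes.toFinset.image (δ K) : Finset _) : Set _) := by
    ext x; simp
  rw [ideal, this]
  refine le_trans (finrank_span_finset_le_card _) (le_trans Finset.card_image_le ?_)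
  exact le_trans (List.toFinset_card_le _) (le_refl 26)

theorem sub_one_pow_two_pow {R : Type*} [Ring R] (h : ∀ g : R, g + g = 0) (a : R) (k : ℕ) :
    (a - 1) ^ 2 ^ k = a ^ 2 ^ k - 1 := by
  induction k with
  | zero => simp
  | succ k ih =>
    rw [pow_succ 2 k, pow_mul, pow_mul, ih, sq, sq]
    generalize a ^ 2 ^ k = x
    calc (x - 1) * (x - 1) = x * x - 1 - (x + x) + (1 + 1) := by noncomm_ring
      _ = x * x - 1 := by rw [h x, h 1, sub_zero, add_zero]

/-- A good matrix whose order is a power of 2 has 32nd power 1. -/
theorem pow_thirty_two_eq_one [CharP K 2] {M : Matrix chevF4.Idx chevF4.Idx K} (hM : Good M) {j : ℕ}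
    (hj : M ^ 2 ^ j = 1) : M ^ 32 = 1 := by
  haveI := Fact.mk Nat.prime_two
  let f : Module.End K (ideal K) := M.mulVecLin.restrict hM.1
  have hpow : ∀ k (x : ideal K), (((f ^ k) x : ideal K) : chevF4.Idx → K) = (M ^ k) *ᵥ (x : chevF4.Idx → K) := by
    intro k
    induction k with
    | zero => simp
    | succ k ih =>
      intro x
      rw [pow_succ', Module.End.mul_apply, pow_succ', ← Matrix.mulVec_mulVec, ← ih x]
      rfl
  have hf : f ^ 2 ^ j = 1 := LinearMap.ext fun x => Subtype.ext (by rw [hpow, hj]; simp)
  have two : ((2 : ℕ) : Module.End K (ideal K)) = 0 := by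
    ext x : 1
    rw [Module.End.natCast_apply, ← Nat.cast_smul_eq_nsmul K, natCast_eq_zero_of_even rfl, zero_smul]
    rfl
  have hsq : ∀ k, (f - 1) ^ 2 ^ k = f ^ 2 ^ k - 1 := fun k => sub_one_pow_two_pow (fun g => by
    have : ((2 : ℕ) : Module.End K (ideal K)) * g = 0 := by rw [two, zero_mul]
    simpa [two_mul] using this) f k
  have hnil : IsNilpotent (f - 1) := ⟨2 ^ j, (hsq j).trans (sub_eq_zero.mpr hf)⟩
  have h26 : (f - 1) ^ finrank K (ideal K) = 0 := by
    have h := hnil.charpoly_eq_X_pow_finrank
    have := (f - 1).aeval_self_charpoly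
    rwa [h, map_pow, Polynomial.aeval_X] at this
  have h32 : f ^ 32 = 1 := by
    have h := pow_eq_zero_of_le (le_trans finrank_ideal_le (by norm_num : 26 ≤ 2 ^ 5)) h26
    rw [hsq] at h
    exact sub_eq_zero.mp h
  have hfix : ∀ v ∈ ideal K, M ^ 32 *ᵥ v = v := fun v hv => by
    have := hpow 32 ⟨v, hv⟩
    rw [h32] at this
    exact this.symm
  have hgood : Good (M ^ 32) := by
    have : ∀ k, Good (M ^ k) := fun k => by
      induction k with
      | zero => exact good_one
      | succ k ih => rw [pow_succ]; exact good_mul ih hM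
    exact this 32
  refine Matrix.ext_of_mulVec_single fun a => ?_
  rw [Matrix.one_mulVec]
  refine sub_eq_zero.mp (eq_zero_of_brL _ fun v hv => ?_)
  have h := hgood.2 (Pi.single a 1) v hv
  rw [hfix _ (brL_mem _ hv), hfix v hv] at h
  rw [map_sub, LinearMap.sub_apply, ← h, sub_self]

theorem good_of_mem [Fintype K] [CharP K 2] {e : ℕ} {g : GL chevF4.Idx K}
    (hg : g ∈ twistedF4 K e) : Good (g : Matrix chevF4.Idx chevF4.Idx K) := by
  have hgen : ∀ w ∈ f4Words K e, Good (chevF4.wordMat K w) := by
    intro w hw
    have hall : ∀ p ∈ w, ∃ n, n < 12 ∧ p.1 = (usedRoot n).val := by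
      rcases hw with ⟨t, rfl | rfl⟩ | ⟨t, u, rfl | rfl⟩ <;>
        intro p hp <;> simp only [f4PairWord, b2ClassWord, List.mem_cons, List.not_mem_nil, or_false] at hp <;>
        rcases hp with rfl | rfl | rfl | rfl <;>
        first
          | exact ⟨0, by norm_num, rfl⟩
          | exact ⟨1, by norm_num, rfl⟩
          | exact ⟨2, by norm_num, rfl⟩
          | exact ⟨3, by norm_num, rfl⟩
          | exact ⟨4, by norm_num, rfl⟩
          | exact ⟨5, by norm_num, rfl⟩
          | exact ⟨6, by norm_num, rfl⟩
          | exact ⟨7, by norm_num, rfl⟩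
          | exact ⟨8, by norm_num, rfl⟩
          | exact ⟨9, by norm_num, rfl⟩
          | exact ⟨10, by norm_num, rfl⟩
          | exact ⟨11, by norm_num, rfl⟩
    clear hw
    induction w with
    | nil => exact good_one
    | cons p w ih =>
      rw [ChevalleyDatum.wordMat, List.map_cons, List.prod_cons]
      refine good_mul ?_ (ih fun q hq => hall q (List.mem_cons_of_mem _ hq))
      obtain ⟨n, hn, he⟩ := hall p (by simp)
      rw [he, ChevalleyDatum.x, dif_pos (usedRoot n).isLt]
      exact good_xMat hn _
  haveI : Finite (GL chevF4.Idx K) := inferInstance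
  have hmem : g ∈ Submonoid.closure {g : GL chevF4.Idx K | ∃ w ∈ f4Words K e,
      (g : Matrix chevF4.Idx chevF4.Idx K) = chevF4.wordMat K w} := by
    rw [← Subgroup.closure_toSubmonoid_of_finite]
    exact hg
  clear hg
  induction hmem using Submonoid.closure_induction with
  | mem x hx => obtain ⟨w, hw, he⟩ := hx; rw [he]; exact hgen w hw
  | one => exact good_one
  | mul x y _ _ hx hy => exact good_mul hx hy

end CfsgLib.LargeRee
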