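import Cfsg.Prelude.Def_LieTwisted

set_option autoImplicit false

/-! Tables, modulo 2, for the short-root ideal of the `F₄` Lie algebra (coordinates coded `0..51`). -/

namespace CfsgLib.LargeRee

/-- The codes of the basis of the short-root ideal. -/
def idealCodes : List ℕ := [0, 1, 7, 11, 12, 13, 14, 15, 16, 17, 18, 22, 23, 24, 31, 32, 33, 37, 38, 39, 40, 41, 42, 43, 44, 48]

/-- The roots occurring in the generators of the twisted group. -/
def usedRoots : List ℕ := [33, 24, 14, 23, 27, 25, 28, 30, 20, 22, 19, 17]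

/-- The columns of the matrix of a root element. -/
def colTab0 : List (List (ℕ × ℕ)) :=
  [[(0, 0)], [(0, 1), (1, 37)], [(0, 2)], [(0, 3)], [(0, 4)], [(0, 5)],
   [(0, 6)], [(0, 7), (1, 11)], [(0, 8), (1, 12), (2, 19)], [(0, 9), (1, 13), (2, 20)], [(0, 10), (1, 14), (2, 21)], [(0, 11)],
   [(0, 12)], [(0, 13)], [(0, 14)], [(0, 15), (1, 22)], [(0, 16), (1, 23)], [(0, 17), (1, 24)],
   [(0, 18), (1, 0), (2, 37)], [(0, 19)], [(0, 20)], [(0, 21)], [(0, 22)], [(0, 23)],
   [(0, 24)], [(0, 25)], [(0, 26)], [(0, 27)], [(0, 28)], [(0, 29)],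
   [(0, 30)], [(0, 31), (1, 38)], [(0, 32), (1, 39)], [(0, 33), (1, 40)], [(0, 34), (1, 41), (2, 45)], [(0, 35), (1, 42), (2, 46)],
   [(0, 36), (1, 43), (2, 47)], [(0, 37)], [(0, 38)], [(0, 39)], [(0, 40)], [(0, 41)],
   [(0, 42)], [(0, 43)], [(0, 44), (1, 48)], [(0, 45)], [(0, 46)], [(0, 47)],
   [(0, 48)], [(0, 49)], [(0, 50)], [(0, 51)]]

/-- The columns of the matrix of a root element. -/
def colTab1 : List (List (ℕ × ℕ)) :=
  [[(0, 0)], [(0, 1)], [(0, 2), (1, 28)], [(0, 3)], [(0, 4), (1, 5)], [(0, 5)],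
   [(0, 6)], [(0, 7)], [(0, 8)], [(0, 9), (1, 10)], [(0, 10)], [(0, 11)],
   [(0, 12)], [(0, 13), (1, 14)], [(0, 14)], [(0, 15), (1, 16)], [(0, 16)], [(0, 17)],
   [(0, 18)], [(0, 19)], [(0, 20), (1, 21)], [(0, 21)], [(0, 22), (1, 23)], [(0, 23)],
   [(0, 24)], [(0, 25), (1, 26)], [(0, 26)], [(0, 27), (1, 3), (2, 28)], [(0, 28)], [(0, 29), (1, 30)],
   [(0, 30)], [(0, 31)], [(0, 32), (1, 33)], [(0, 33)], [(0, 34), (1, 35)], [(0, 35)],
   [(0, 36)], [(0, 37)], [(0, 38)], [(0, 39), (1, 40)], [(0, 40)], [(0, 41), (1, 42)],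
   [(0, 42)], [(0, 43)], [(0, 44)], [(0, 45), (1, 46)], [(0, 46)], [(0, 47)],
   [(0, 48)], [(0, 49)], [(0, 50), (1, 51)], [(0, 51)]]

/-- The columns of the matrix of a root element. -/
def colTab2 : List (List (ℕ × ℕ)) :=
  [[(0, 0)], [(0, 1), (1, 18)], [(0, 2)], [(0, 3)], [(0, 4)], [(0, 5)],
   [(0, 6)], [(0, 7)], [(0, 8)], [(0, 9)], [(0, 10)], [(0, 11), (1, 7)],
   [(0, 12)], [(0, 13)], [(0, 14)], [(0, 15)], [(0, 16)], [(0, 17)],
   [(0, 18)], [(0, 19), (1, 12), (2, 8)], [(0, 20), (1, 13), (2, 9)], [(0, 21), (1, 14), (2, 10)], [(0, 22), (1, 15)], [(0, 23), (1, 16)],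
   [(0, 24), (1, 17)], [(0, 25)], [(0, 26)], [(0, 27)], [(0, 28)], [(0, 29)],
   [(0, 30)], [(0, 31)], [(0, 32)], [(0, 33)], [(0, 34)], [(0, 35)],
   [(0, 36)], [(0, 37), (1, 0), (2, 18)], [(0, 38), (1, 31)], [(0, 39), (1, 32)], [(0, 40), (1, 33)], [(0, 41)],
   [(0, 42)], [(0, 43)], [(0, 44)], [(0, 45), (1, 41), (2, 34)], [(0, 46), (1, 42), (2, 35)], [(0, 47), (1, 43), (2, 36)],
   [(0, 48), (1, 44)], [(0, 49)], [(0, 50)], [(0, 51)]]

/-- The columns of the matrix of a root element. -/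
def colTab3 : List (List (ℕ × ℕ)) :=
  [[(0, 0)], [(0, 1)], [(0, 2), (1, 27)], [(0, 3)], [(0, 4)], [(0, 5), (1, 4)],
   [(0, 6)], [(0, 7)], [(0, 8)], [(0, 9)], [(0, 10), (1, 9)], [(0, 11)],
   [(0, 12)], [(0, 13)], [(0, 14), (1, 13)], [(0, 15)], [(0, 16), (1, 15)], [(0, 17)],
   [(0, 18)], [(0, 19)], [(0, 20)], [(0, 21), (1, 20)], [(0, 22)], [(0, 23), (1, 22)],
   [(0, 24)], [(0, 25)], [(0, 26), (1, 25)], [(0, 27)], [(0, 28), (1, 3), (2, 27)], [(0, 29)],
   [(0, 30), (1, 29)], [(0, 31)], [(0, 32)], [(0, 33), (1, 32)], [(0, 34)], [(0, 35), (1, 34)],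
   [(0, 36)], [(0, 37)], [(0, 38)], [(0, 39)], [(0, 40), (1, 39)], [(0, 41)],
   [(0, 42), (1, 41)], [(0, 43)], [(0, 44)], [(0, 45)], [(0, 46), (1, 45)], [(0, 47)],
   [(0, 48)], [(0, 49)], [(0, 50)], [(0, 51), (1, 50)]]

/-- The columns of the matrix of a root element. -/
def colTab4 : List (List (ℕ × ℕ)) :=
  [[(0, 0), (1, 31)], [(0, 1)], [(0, 2), (1, 31)], [(0, 3)], [(0, 4)], [(0, 5)],
   [(0, 6), (1, 7), (2, 8)], [(0, 7)], [(0, 8)], [(0, 9)], [(0, 10)], [(0, 11), (1, 12)],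
   [(0, 12)], [(0, 13), (1, 15)], [(0, 14), (1, 16)], [(0, 15)], [(0, 16)], [(0, 17), (1, 18)],
   [(0, 18)], [(0, 19)], [(0, 20), (1, 22), (2, 25)], [(0, 21), (1, 23), (2, 26)], [(0, 22)], [(0, 23)],
   [(0, 24), (1, 1), (2, 31)], [(0, 25)], [(0, 26)], [(0, 27)], [(0, 28)], [(0, 29), (1, 32), (2, 34)],
   [(0, 30), (1, 33), (2, 35)], [(0, 31)], [(0, 32)], [(0, 33)], [(0, 34)], [(0, 35)],
   [(0, 36)], [(0, 37), (1, 38)], [(0, 38)], [(0, 39), (1, 41)], [(0, 40), (1, 42)], [(0, 41)],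
   [(0, 42)], [(0, 43), (1, 44)], [(0, 44)], [(0, 45)], [(0, 46)], [(0, 47), (1, 48), (2, 49)],
   [(0, 48)], [(0, 49)], [(0, 50)], [(0, 51)]]

/-- The columns of the matrix of a root element. -/
def colTab5 : List (List (ℕ × ℕ)) :=
  [[(0, 0)], [(0, 1)], [(0, 2)], [(0, 3), (1, 29)], [(0, 4)], [(0, 5), (1, 6)],
   [(0, 6)], [(0, 7)], [(0, 8), (1, 9)], [(0, 9)], [(0, 10)], [(0, 11)],
   [(0, 12), (1, 13)], [(0, 13)], [(0, 14)], [(0, 15)], [(0, 16), (1, 17)], [(0, 17)],
   [(0, 18)], [(0, 19), (1, 20)], [(0, 20)], [(0, 21)], [(0, 22)], [(0, 23), (1, 24)],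
   [(0, 24)], [(0, 25), (1, 27)], [(0, 26), (1, 2), (2, 29)], [(0, 27)], [(0, 28), (1, 30)], [(0, 29)],
   [(0, 30)], [(0, 31), (1, 32)], [(0, 32)], [(0, 33)], [(0, 34)], [(0, 35), (1, 36)],
   [(0, 36)], [(0, 37)], [(0, 38), (1, 39)], [(0, 39)], [(0, 40)], [(0, 41)],
   [(0, 42), (1, 43)], [(0, 43)], [(0, 44)], [(0, 45)], [(0, 46), (1, 47)], [(0, 47)],
   [(0, 48)], [(0, 49), (1, 50)], [(0, 50)], [(0, 51)]]

/-- The columns of the matrix of a root element. -/
def colTab6 : List (List (ℕ × ℕ)) :=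
  [[(0, 0), (1, 32)], [(0, 1)], [(0, 2), (1, 32)], [(0, 3), (1, 32)], [(0, 4)], [(0, 5), (1, 7), (2, 9)],
   [(0, 6)], [(0, 7)], [(0, 8)], [(0, 9)], [(0, 10)], [(0, 11), (1, 13)],
   [(0, 12), (1, 15)], [(0, 13)], [(0, 14), (1, 17)], [(0, 15)], [(0, 16), (1, 18)], [(0, 17)],
   [(0, 18)], [(0, 19), (1, 22), (2, 27)], [(0, 20)], [(0, 21), (1, 24), (2, 29)], [(0, 22)], [(0, 23), (1, 1), (2, 32)],
   [(0, 24)], [(0, 25)], [(0, 26), (1, 31), (2, 34)], [(0, 27)], [(0, 28), (1, 33), (2, 36)], [(0, 29)],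
   [(0, 30)], [(0, 31)], [(0, 32)], [(0, 33)], [(0, 34)], [(0, 35)],
   [(0, 36)], [(0, 37), (1, 39)], [(0, 38), (1, 41)], [(0, 39)], [(0, 40), (1, 43)], [(0, 41)],
   [(0, 42), (1, 44)], [(0, 43)], [(0, 44)], [(0, 45)], [(0, 46), (1, 48), (2, 50)], [(0, 47)],
   [(0, 48)], [(0, 49)], [(0, 50)], [(0, 51)]]

/-- The columns of the matrix of a root element. -/
def colTab7 : List (List (ℕ × ℕ)) :=
  [[(0, 0)], [(0, 1)], [(0, 2)], [(0, 3), (1, 34)], [(0, 4)], [(0, 5), (1, 8)],
   [(0, 6), (1, 9)], [(0, 7)], [(0, 8)], [(0, 9)], [(0, 10)], [(0, 11), (1, 15)],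
   [(0, 12)], [(0, 13)], [(0, 14), (1, 18)], [(0, 15)], [(0, 16)], [(0, 17)],
   [(0, 18)], [(0, 19), (1, 25)], [(0, 20), (1, 27)], [(0, 21), (1, 1), (1, 2), (2, 34)], [(0, 22)], [(0, 23), (1, 31)],
   [(0, 24), (1, 32)], [(0, 25)], [(0, 26)], [(0, 27)], [(0, 28), (1, 35)], [(0, 29)],
   [(0, 30), (1, 36)], [(0, 31)], [(0, 32)], [(0, 33)], [(0, 34)], [(0, 35)],
   [(0, 36)], [(0, 37), (1, 41)], [(0, 38)], [(0, 39)], [(0, 40), (1, 44)], [(0, 41)],
   [(0, 42)], [(0, 43)], [(0, 44)], [(0, 45)], [(0, 46), (1, 49)], [(0, 47), (1, 50)],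
   [(0, 48)], [(0, 49)], [(0, 50)], [(0, 51)]]

/-- The columns of the matrix of a root element. -/
def colTab8 : List (List (ℕ × ℕ)) :=
  [[(0, 0), (1, 24)], [(0, 1)], [(0, 2), (1, 24)], [(0, 3)], [(0, 4)], [(0, 5)],
   [(0, 6)], [(0, 7)], [(0, 8), (1, 7), (2, 6)], [(0, 9)], [(0, 10)], [(0, 11)],
   [(0, 12), (1, 11)], [(0, 13)], [(0, 14)], [(0, 15), (1, 13)], [(0, 16), (1, 14)], [(0, 17)],
   [(0, 18), (1, 17)], [(0, 19)], [(0, 20)], [(0, 21)], [(0, 22)], [(0, 23)],
   [(0, 24)], [(0, 25), (1, 22), (2, 20)], [(0, 26), (1, 23), (2, 21)], [(0, 27)], [(0, 28)], [(0, 29)],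
   [(0, 30)], [(0, 31), (1, 1), (2, 24)], [(0, 32)], [(0, 33)], [(0, 34), (1, 32), (2, 29)], [(0, 35), (1, 33), (2, 30)],
   [(0, 36)], [(0, 37)], [(0, 38), (1, 37)], [(0, 39)], [(0, 40)], [(0, 41), (1, 39)],
   [(0, 42), (1, 40)], [(0, 43)], [(0, 44), (1, 43)], [(0, 45)], [(0, 46)], [(0, 47)],
   [(0, 48)], [(0, 49), (1, 48), (2, 47)], [(0, 50)], [(0, 51)]]

/-- The columns of the matrix of a root element. -/
def colTab9 : List (List (ℕ × ℕ)) :=
  [[(0, 0)], [(0, 1)], [(0, 2)], [(0, 3), (1, 26)], [(0, 4)], [(0, 5)],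
   [(0, 6), (1, 5)], [(0, 7)], [(0, 8)], [(0, 9), (1, 8)], [(0, 10)], [(0, 11)],
   [(0, 12)], [(0, 13), (1, 12)], [(0, 14)], [(0, 15)], [(0, 16)], [(0, 17), (1, 16)],
   [(0, 18)], [(0, 19)], [(0, 20), (1, 19)], [(0, 21)], [(0, 22)], [(0, 23)],
   [(0, 24), (1, 23)], [(0, 25)], [(0, 26)], [(0, 27), (1, 25)], [(0, 28)], [(0, 29), (1, 2), (2, 26)],
   [(0, 30), (1, 28)], [(0, 31)], [(0, 32), (1, 31)], [(0, 33)], [(0, 34)], [(0, 35)],
   [(0, 36), (1, 35)], [(0, 37)], [(0, 38)], [(0, 39), (1, 38)], [(0, 40)], [(0, 41)],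
   [(0, 42)], [(0, 43), (1, 42)], [(0, 44)], [(0, 45)], [(0, 46)], [(0, 47), (1, 46)],
   [(0, 48)], [(0, 49)], [(0, 50), (1, 49)], [(0, 51)]]

/-- The columns of the matrix of a root element. -/
def colTab10 : List (List (ℕ × ℕ)) :=
  [[(0, 0), (1, 23)], [(0, 1)], [(0, 2), (1, 23)], [(0, 3), (1, 23)], [(0, 4)], [(0, 5)],
   [(0, 6)], [(0, 7)], [(0, 8)], [(0, 9), (1, 7), (2, 5)], [(0, 10)], [(0, 11)],
   [(0, 12)], [(0, 13), (1, 11)], [(0, 14)], [(0, 15), (1, 12)], [(0, 16)], [(0, 17), (1, 14)],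
   [(0, 18), (1, 16)], [(0, 19)], [(0, 20)], [(0, 21)], [(0, 22)], [(0, 23)],
   [(0, 24)], [(0, 25)], [(0, 26)], [(0, 27), (1, 22), (2, 19)], [(0, 28)], [(0, 29), (1, 24), (2, 21)],
   [(0, 30)], [(0, 31)], [(0, 32), (1, 1), (2, 23)], [(0, 33)], [(0, 34), (1, 31), (2, 26)], [(0, 35)],
   [(0, 36), (1, 33), (2, 28)], [(0, 37)], [(0, 38)], [(0, 39), (1, 37)], [(0, 40)], [(0, 41), (1, 38)],
   [(0, 42)], [(0, 43), (1, 40)], [(0, 44), (1, 42)], [(0, 45)], [(0, 46)], [(0, 47)],
   [(0, 48)], [(0, 49)], [(0, 50), (1, 48), (2, 46)], [(0, 51)]]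

/-- The columns of the matrix of a root element. -/
def colTab11 : List (List (ℕ × ℕ)) :=
  [[(0, 0)], [(0, 1)], [(0, 2)], [(0, 3), (1, 21)], [(0, 4)], [(0, 5)],
   [(0, 6)], [(0, 7)], [(0, 8), (1, 5)], [(0, 9), (1, 6)], [(0, 10)], [(0, 11)],
   [(0, 12)], [(0, 13)], [(0, 14)], [(0, 15), (1, 11)], [(0, 16)], [(0, 17)],
   [(0, 18), (1, 14)], [(0, 19)], [(0, 20)], [(0, 21)], [(0, 22)], [(0, 23)],
   [(0, 24)], [(0, 25), (1, 19)], [(0, 26)], [(0, 27), (1, 20)], [(0, 28)], [(0, 29)],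
   [(0, 30)], [(0, 31), (1, 23)], [(0, 32), (1, 24)], [(0, 33)], [(0, 34), (1, 1), (1, 2), (2, 21)], [(0, 35), (1, 28)],
   [(0, 36), (1, 30)], [(0, 37)], [(0, 38)], [(0, 39)], [(0, 40)], [(0, 41), (1, 37)],
   [(0, 42)], [(0, 43)], [(0, 44), (1, 40)], [(0, 45)], [(0, 46)], [(0, 47)],
   [(0, 48)], [(0, 49), (1, 46)], [(0, 50), (1, 47)], [(0, 51)]]

/-- The columns of the root elements, by position in `usedRoots`. -/
def colTabs : List (List (List (ℕ × ℕ))) := [colTab0, colTab1, colTab2, colTab3, colTab4, colTab5, colTab6, colTab7, colTab8, colTab9, colTab10, colTab11]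

/-- The bracket of a basis element with a basis element of the ideal. -/
def bracketTab : List (List (List ℕ)) :=
  [[[], [], [7], [11], [], [], [], [15], [16], [17], [], [22], [23], [24], [31], [32], [33], [], [38], [39], [40], [], [], [], [44], [48]],
   [[], [], [], [11], [12], [13], [14], [15], [16], [17], [18], [], [], [], [], [], [], [37], [38], [39], [40], [41], [42], [43], [44], []],
   [[], [], [], [], [12], [13], [], [], [16], [17], [], [], [23], [24], [31], [32], [], [], [38], [39], [], [], [42], [43], [], []],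
   [[], [], [], [], [], [13], [14], [15], [16], [], [], [22], [23], [], [], [32], [33], [], [], [39], [40], [41], [42], [], [], []],
   [[], [], [], [], [], [], [], [], [], [], [], [], [], [], [], [], [7], [], [], [], [11], [], [12], [13], [15], [22]],
   [[], [], [], [], [], [], [], [], [], [], [], [], [], [], [], [7], [], [], [], [11], [], [12], [], [14], [16], [23]],
   [[], [], [], [], [], [], [], [], [], [], [], [], [], [], [7], [], [], [], [11], [], [], [13], [14], [], [17], [24]],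
   [[7], [], [], [], [], [], [], [], [], [], [], [], [], [], [], [], [], [11], [12], [13], [14], [15], [16], [17], [18], [1]],
   [[], [], [], [], [], [], [], [], [], [], [], [], [], [7], [], [], [], [12], [], [15], [16], [], [], [18], [], [31]],
   [[], [], [], [], [], [], [], [], [], [], [], [], [7], [], [], [], [], [13], [15], [], [17], [], [18], [], [], [32]],
   [[], [], [], [], [], [], [], [], [], [], [], [7], [], [], [], [], [], [14], [16], [17], [], [18], [], [], [], [33]],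
   [[11], [11], [], [], [], [], [], [], [], [], [7], [], [], [], [12], [13], [14], [], [], [], [], [22], [23], [24], [0, 1], [37]],
   [[], [12], [], [], [], [], [], [], [], [7], [], [], [], [11], [], [15], [16], [], [], [22], [23], [], [], [0], [31], [38]],
   [[], [13], [], [], [], [], [], [], [7], [], [], [], [11], [], [15], [], [17], [], [22], [], [24], [], [0], [], [32], [39]],
   [[], [14], [], [], [], [], [], [7], [], [], [], [11], [], [], [16], [17], [], [], [23], [24], [], [0], [], [], [33], [40]],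
   [[15], [15], [], [], [], [], [7], [], [], [], [], [], [12], [13], [], [], [18], [22], [], [], [0, 1], [], [31], [32], [], [41]],
   [[16], [16], [], [], [], [7], [], [], [], [], [], [12], [], [14], [], [18], [], [23], [], [0, 1], [], [31], [], [33], [], [42]],
   [[17], [17], [], [], [7], [], [], [], [], [], [], [13], [14], [], [18], [], [], [24], [0, 1], [], [], [32], [33], [], [], [43]],
   [[], [18], [], [7], [], [], [], [], [], [], [], [15], [16], [17], [], [], [], [0], [31], [32], [33], [], [], [], [], [44]],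
   [[], [], [], [], [], [], [], [], [], [11], [12], [], [], [], [], [22], [23], [], [], [], [], [], [], [37], [38], []],
   [[], [], [], [], [], [], [], [], [11], [], [13], [], [], [], [22], [], [24], [], [], [], [], [], [37], [], [39], []],
   [[], [], [], [], [], [], [], [11], [], [], [14], [], [], [], [23], [24], [], [], [], [], [], [37], [], [], [40], []],
   [[22], [], [], [], [], [], [11], [], [12], [13], [15], [], [], [], [], [], [1], [], [], [], [37], [], [38], [39], [41], []],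
   [[23], [], [], [], [], [11], [], [12], [], [14], [16], [], [], [], [], [1], [], [], [], [37], [], [38], [], [40], [42], []],
   [[24], [], [], [], [11], [], [], [13], [14], [], [17], [], [], [], [1], [], [], [], [37], [], [], [39], [40], [], [43], []],
   [[], [], [], [], [], [], [12], [], [], [15], [], [], [], [22], [], [], [31], [], [], [], [38], [], [], [41], [], []],
   [[], [], [], [], [], [12], [], [], [], [16], [], [], [], [23], [], [31], [], [], [], [38], [], [], [], [42], [], []],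
   [[], [], [], [], [], [], [13], [], [15], [], [], [], [22], [], [], [], [32], [], [], [], [39], [], [41], [], [], []],
   [[], [], [], [], [], [14], [], [16], [], [], [], [23], [], [], [], [33], [], [], [], [40], [], [42], [], [], [], []],
   [[], [], [], [], [13], [], [], [], [17], [], [], [], [24], [], [32], [], [], [], [39], [], [], [], [43], [], [], []],
   [[], [], [], [], [14], [], [], [17], [], [], [], [24], [], [], [33], [], [], [], [40], [], [], [43], [], [], [], []],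
   [[31], [], [], [12], [], [15], [16], [], [], [18], [], [], [], [1], [], [], [], [38], [], [41], [42], [], [], [44], [], []],
   [[32], [], [], [13], [15], [], [17], [], [18], [], [], [], [1], [], [], [], [], [39], [41], [], [43], [], [44], [], [], []],
   [[33], [], [], [14], [16], [17], [], [18], [], [], [], [1], [], [], [], [], [], [40], [42], [43], [], [44], [], [], [], []],
   [[], [], [], [15], [], [], [18], [], [], [], [], [], [31], [32], [], [], [], [41], [], [], [44], [], [], [], [], []],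
   [[], [], [], [16], [], [18], [], [], [], [], [], [31], [], [33], [], [], [], [42], [], [44], [], [], [], [], [], []],
   [[], [], [], [17], [18], [], [], [], [], [], [], [32], [33], [], [], [], [], [43], [44], [], [], [], [], [], [], []],
   [[], [37], [11], [], [], [], [], [22], [23], [24], [0], [], [], [], [38], [39], [40], [], [], [], [], [], [], [], [48], []],
   [[38], [38], [12], [], [], [22], [23], [], [], [0, 1], [31], [], [], [37], [], [41], [42], [], [], [], [], [], [], [48], [], []],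
   [[39], [39], [13], [], [22], [], [24], [], [0, 1], [], [32], [], [37], [], [41], [], [43], [], [], [], [], [], [48], [], [], []],
   [[40], [40], [14], [], [23], [24], [], [0, 1], [], [], [33], [37], [], [], [42], [43], [], [], [], [], [], [48], [], [], [], []],
   [[], [41], [15], [22], [], [], [0], [], [31], [32], [], [], [38], [39], [], [], [44], [], [], [], [48], [], [], [], [], []],
   [[], [42], [16], [23], [], [0], [], [31], [], [33], [], [38], [], [40], [], [44], [], [], [], [48], [], [], [], [], [], []],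
   [[], [43], [17], [24], [0], [], [], [32], [33], [], [], [39], [40], [], [44], [], [], [], [48], [], [], [], [], [], [], []],
   [[44], [44], [18], [0, 1], [31], [32], [33], [], [], [], [], [41], [42], [43], [], [], [], [48], [], [], [], [], [], [], [], []],
   [[], [], [22], [], [], [], [37], [], [38], [39], [41], [], [], [], [], [], [48], [], [], [], [], [], [], [], [], []],
   [[], [], [23], [], [], [37], [], [38], [], [40], [42], [], [], [], [], [48], [], [], [], [], [], [], [], [], [], []],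
   [[], [], [24], [], [37], [], [], [39], [40], [], [43], [], [], [], [48], [], [], [], [], [], [], [], [], [], [], []],
   [[48], [], [1], [37], [38], [39], [40], [41], [42], [43], [44], [], [], [], [], [], [], [], [], [], [], [], [], [], [], []],
   [[], [], [31], [38], [], [41], [42], [], [], [44], [], [], [], [48], [], [], [], [], [], [], [], [], [], [], [], []],
   [[], [], [32], [39], [41], [], [43], [], [44], [], [], [], [48], [], [], [], [], [], [], [], [], [], [], [], [], []],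
   [[], [], [33], [40], [42], [43], [], [44], [], [], [], [48], [], [], [], [], [], [], [], [], [], [], [], [], [], []]]

/-- Witnesses that the bracket with the ideal is injective. -/
def injTab : List (List (ℕ × ℕ)) :=
  [[(2, 7)],
   [(2, 7), (3, 11)],
   [(2, 7), (3, 11), (4, 12)],
   [(4, 12), (5, 13)],
   [(16, 7)],
   [(15, 7)],
   [(14, 7)],
   [(0, 7)],
   [(13, 7)],
   [(12, 7)],
   [(11, 7)],
   [(0, 11)],
   [(1, 12)],
   [(1, 13)],
   [(1, 14)],
   [(0, 15)],
   [(0, 16)],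
   [(0, 17)],
   [(1, 18)],
   [(9, 11)],
   [(8, 11)],
   [(7, 11)],
   [(0, 22)],
   [(0, 23)],
   [(0, 24)],
   [(6, 12)],
   [(5, 12)],
   [(6, 13)],
   [(5, 14)],
   [(4, 13)],
   [(4, 14)],
   [(0, 31)],
   [(0, 32)],
   [(0, 33)],
   [(3, 15)],
   [(3, 16)],
   [(3, 17)],
   [(1, 37)],
   [(0, 38)],
   [(0, 39)],
   [(0, 40)],
   [(1, 41)],
   [(1, 42)],
   [(1, 43)],
   [(0, 44)],
   [(2, 22)],
   [(2, 23)],
   [(2, 24)],
   [(0, 48)],
   [(2, 31)],
   [(2, 32)],
   [(2, 33)]]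

end CfsgLib.LargeRee
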